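import Cfsg.Agent.H300.K4.JTwoDeg
import Cfsg.Agent.H740.K4.Four
import Cfsg.Agent.H740.K4.Equiv
import Cfsg.Agent.H714.K4.Defs
import Cfsg.Agent.NotCT.Orders
import Cfsg.Agent.J2.HundredGens

/-!
# S4947 / S4547, row `J2` (helper300): `Good5 S`, `RowA S`

The rational characters `1`, `63`, `175`, `225` (action on 840 points, rank 7); their values at an element of order 15
are `1, 0, 0, 0`, with an odd sum (column parity, `H740/K4/Four.lean`).
-/

set_option autoImplicit false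

namespace Cfsg.Agent.H300.K4.JTwo

open Cfsg Cfsg.Agent.H740.K4 Cfsg.Agent.SporadicA.J2Hundred Cfsg.Agent.H300.K4.JTwoDeg

universe u

theorem card_J2 : Nat.card Spor.J2 = 604800 := NotCT.Orders.j2 ⟨MulEquiv.refl _⟩

theorem good5_model : H601.K4.Good5 G := by
  obtain ⟨f⟩ := J2.HundredGens.J2_iso card_J2
  have hcard : Nat.card G = 604800 := by rw [← Nat.card_congr f.toEquiv, card_J2]
  obtain ⟨a, ha1, ha2, ha3⟩ := exists_63
  obtain ⟨b, hb1, hb2, hb3⟩ := exists_175
  obtain ⟨c, hc1, hc2, hc3⟩ := exists_225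
  obtain ⟨ho1, ho2⟩ := el_order
  have ho1' : Odd (orderOf el⁻¹) := by rwa [orderOf_inv]
  have ho2' : 5 ∣ orderOf el⁻¹ := by rwa [orderOf_inv]
  have hd : ∀ {χ : G → ℂ} {n : ℕ}, χ 1 = n → Odd n → Odd (charDegree χ) := by
    intro χ n h hn
    rwa [Cfsg.Agent.Blocks.Basic.charDegree_of_eq h]
  have ga : H601.K4.Good a := good_of_rat ha1 (fun g => ⟨_, ha3 g⟩) (hd ha2 (by decide))
  have gb : H601.K4.Good b := good_of_rat hb1 hb3 (hd hb2 (by decide))
  have gc : H601.K4.Good c := good_of_rat hc1 hc3 (hd hc2 (by decide))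
  have va : a el⁻¹ = 0 := by
    rw [ha3, inv_inv, sum63]
    simp
  have hp : (5 : ℕ).Prime := by norm_num
  have hn : 5 ^ 2 ∣ Nat.card G := by rw [hcard]; norm_num
  have hn' : ¬ 5 ^ (2 + 1) ∣ Nat.card G := by rw [hcard]; norm_num
  have vb : b el⁻¹ = 0 := zero_of_dvd hp hn hn' hb1 hb2 (by norm_num) ho2'
  have vc : c el⁻¹ = 0 := zero_of_dvd hp hn hn' hc1 hc2 (by norm_num) ho2'
  have d1 : (fun _ : G => (1 : ℂ)) 1 = (1 : ℕ) := by simp
  refine good5_of_four (by rw [hcard]; decide) (χ := ![fun _ => 1, a, b, c]) (t := el⁻¹) (z := ![1, 0, 0, 0]) ?_ ?_ ho1'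
    ?_ ?_
  · have hdeg : ∀ i : Fin 4, (![fun _ => 1, a, b, c] : Fin 4 → G → ℂ) i 1 = ((![1, 63, 175, 225] : Fin 4 → ℕ) i : ℂ) := by
      intro i
      fin_cases i
      · simp
      · exact ha2
      · exact hb2
      · exact hc2
    intro i j hij
    have h1 : ((![1, 63, 175, 225] : Fin 4 → ℕ) i : ℂ) = ((![1, 63, 175, 225] : Fin 4 → ℕ) j : ℂ) := by
      rw [← hdeg, ← hdeg, hij]
    have h2 : (![1, 63, 175, 225] : Fin 4 → ℕ) i = (![1, 63, 175, 225] : Fin 4 → ℕ) j := by exact_mod_cast h1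
    revert h2
    fin_cases i <;> fin_cases j <;> simp
  · intro i
    fin_cases i
    · exact good_one'
    · exact ga
    · exact gb
    · exact gc
  · intro i
    fin_cases i
    · simp
    · simpa using va
    · simpa using vb
    · simpa using vc
  · simp [Fin.sum_univ_succ]

/-- **`J2`, row (A) of S4547** -/
theorem good5 {S : Type u} [Group S] (h : Spor.IsoJ2 S) : H601.K4.Good5 S := by
  obtain ⟨f⟩ := J2.HundredGens.J2_iso card_J2
  obtain ⟨e⟩ := h
  have : Finite S := Finite.of_equiv _ (e.trans f).symm.toEquiv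
  exact good5_of_equiv (e.trans f) good5_model

theorem odd5 {S : Type u} [Group S] (h : Spor.IsoJ2 S) : H601.K4.Odd5 S := (good5 h).odd5

/-- **`J2`, row (A) of S4947** -/
theorem rowA {S : Type u} [Group S] (h : Spor.IsoJ2 S) : H714.K4.RowA S := by
  classical
  have : Finite S := Nat.finite_of_card_ne_zero (by rw [NotCT.Orders.j2 h]; norm_num)
  obtain ⟨χ, h1, h2⟩ := odd5 h
  refine H714.K4.rowA_of_finset (Finset.univ.image χ) ?_ ?_
  · rw [Finset.card_image_of_injective _ h1]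
    simp
  · intro ψ hψ
    obtain ⟨i, -, rfl⟩ := Finset.mem_image.1 hψ
    exact h2 i

end Cfsg.Agent.H300.K4.JTwo
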