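import Cfsg.Agent.H300.K4.Val
import Cfsg.Agent.H300.K4.JTwoData
import Cfsg.Agent.SporadicA.J2Hundred

/-!
# Rational irreducible characters of degrees 63, 175, 225 of the Hall-Janko group (helper300)

The action on 840 subsets of size 40 of the 100 points (the stabilisers are `A₄ × A₅`); the relation is "the
intersection has size 24"; the sizes of the intersection label the 7 orbitals.
-/

set_option autoImplicit false
set_option maxRecDepth 100000

namespace Cfsg.Agent.H300.K4.JTwoDeg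

open Cfsg Equiv Cfsg.Agent.SporadicA.PermTab Cfsg.Agent.SporadicA.J2Data Cfsg.Agent.SporadicA.J2Hundred
open Cfsg.Agent.H300.K4.JTwoData Cfsg.Agent.H678.DG.Blk

/-- the mask of the subset -/
def mk (x : ℕ) : ℕ := Nat.land (Nat.shiftRight SM (Nat.mul 100 x)) 1267650600228229401496703205375

/-- the tables -/
def PQ : List (ℕ × ℕ) := [(tA, qA), (tB, qB), (tC, qC), (tD, qD), (tE, qE)]

/-- the roots -/
def bs : List ℕ := [1, 21, 36, 60, 300, 480]

/-- words of the stabiliser -/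
def KW : List (List (ℕ × ℕ)) := [[(tB, qB)], [(tE, qE), (tD, qD), (tE, qE)], [(tC, qC), (tB, qB), (tA, qA), (tB, qB), (tA, qA), (tD, qD), (tC, qC), (tB, qB), (tD, qD), (tC, qC)]]

/-- sizes -/
def kk (j : ℕ) : ℕ := [1, 20, 15, 24, 240, 180, 360].getD j 0

/-- the collapsed matrix -/
def B (i j : ℕ) : ℕ := ([[0, 0, 15, 0, 0, 0, 0], [0, 3, 0, 0, 12, 0, 0], [1, 0, 2, 0, 0, 12, 0], [0, 0, 0, 0, 0, 0, 15], [0, 1, 0, 0, 5, 3, 6], [0, 0, 1, 0, 4, 2, 8], [0, 0, 0, 1, 4, 4, 6]].getD i []).getD j 0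

theorem c1 : allL (chkPQ 100 840 mk) PQ = true := by decide +kernel
theorem c2 : chkInj 840 100 mk = true := by decide +kernel
theorem c3 : allL (chkW 840 bs) KW = true := by decide +kernel
theorem c4 : chkF 840 bs PQ KW (lk PR) = true := by decide +kernel
theorem c5 : chkK 840 7 bs kk = true := by decide +kernel
theorem c6 : chkB 100 840 7 24 mk bs B = true := by decide +kernel

theorem hGT : ∀ g ∈ gens, ∃ pq ∈ PQ, ∀ i : Fin 100, ((g i : Fin 100) : ℕ) = lk pq.1 i := by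
  rintro g (rfl | rfl | rfl | rfl | rfl)
  · exact ⟨(tA, qA), by simp [PQ], fun i => mkPerm_val tA tA iA i⟩
  · exact ⟨(tB, qB), by simp [PQ], fun i => mkPerm_val tB tB iB i⟩
  · exact ⟨(tC, qC), by simp [PQ], fun i => mkPerm_val tC tC iC i⟩
  · exact ⟨(tD, qD), by simp [PQ], fun i => mkPerm_val tD tD iD i⟩
  · exact ⟨(tE, qE), by simp [PQ], fun i => mkPerm_val tE tE iE i⟩

theorem hin : ∀ pq ∈ PQ, InG G pq.1 := by
  intro pq h
  simp only [PQ, List.mem_cons, List.not_mem_nil, or_false] at h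
  rcases h with rfl | rfl | rfl | rfl | rfl
  exacts [inA, inB, inC, inD, inE]

theorem hKW : ∀ w ∈ KW, ∀ pq ∈ w, pq ∈ PQ := by
  intro w hw pq hpq
  simp only [KW, List.mem_cons, List.not_mem_nil, or_false] at hw
  unfold PQ
  rcases hw with rfl | rfl | rfl <;>
  · simp only [List.mem_cons, List.not_mem_nil, or_false] at hpq ⊢
    tauto

/-- the subsets -/
def F (x : ℕ) : Y 100 := Fm 100 mk x

/-- the sizes of the intersections of the roots with the first subset -/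
def ss (i : Fin 7) : ℕ := (![40, 28, 24, 10, 18, 16, 14] : Fin 7 → ℕ) i

theorem c7 : allB (fun i => cntB (fun j => tb (Nat.land (mk 0) (mk (rt bs i))) j) 100
    ([40, 28, 24, 10, 18, 16, 14].getD i 0)) 7 = true := by decide +kernel

theorem isz_root (i : Fin 7) : isz (Fm 100 mk 0) (Fm 100 mk (rt bs i)) = ss i := by
  have h := (allB_iff _ _).1 c7 i i.2
  rw [← isz_eq] at h
  rw [Nat.eq_of_beq_eq_true h]
  unfold ss
  fin_cases i <;> rfl

/-- a spherical function as a function of the size of the intersection -/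
def om (a : Fin 7 → ℚ) (s : ℕ) : ℚ := ∑ i : Fin 7, if s = ss i then a i else 0

theorem om_ss (a : Fin 7 → ℚ) (i : Fin 7) : om a (ss i) = a i := by
  unfold om
  rw [Finset.sum_eq_single i]
  · rw [if_pos rfl]
  · intro j _ hj
    rw [if_neg]
    intro h
    apply hj
    revert h
    unfold ss
    fin_cases i <;> fin_cases j <;> simp
  · intro h
    exact absurd (Finset.mem_univ _) h

/-- The character for an eigenvalue. -/
theorem char (a : Fin 7 → ℚ) (t : ℚ) (L : Fin 7 → Fin 7 → ℚ) (d : ℕ)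
    (ha : a 0 = 1) (hBa : ∀ i : Fin 7, ∑ j : Fin 7, (B i j : ℚ) * a j = t * a i)
    (hL : ∀ i j : Fin 7, ∑ l : Fin 7, L i l * ((B l j : ℚ) - if l = j then t else 0) =
      (if i = j then 1 else 0) - if j = 0 then a i else 0)
    (hd : (d : ℚ) * ∑ j : Fin 7, (kk j : ℚ) * (a j * a j) = (840 : ℕ)) :
    ∃ χ : G → ℂ, IsIrrCharacter G χ ∧ χ 1 = d ∧
      ∀ g : G, χ g = (((d : ℚ) / (840 : ℕ) * ∑ i : Fin 840, om a (isz (Fm 100 mk i) (g⁻¹ • Fm 100 mk i)) : ℚ) : ℂ) :=
  Val.of_tables (s := 24) (rfl : G = Subgroup.closure gens) hGT hin hKW (by norm_num) rfl c1 c2 c3 c4 c5 c6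
    (by norm_num) a t L d ha hBa hL hd (om a) fun i => by rw [isz_root, om_ss]

/-- the spherical function of the character of degree 63 -/
def a63 : Fin 7 → ℚ := ![1, 1/2, 1/3, -1/4, 1/12, 0, -1/12]

theorem exists_63 : ∃ χ : G → ℂ, IsIrrCharacter G χ ∧ χ 1 = (63 : ℕ) ∧
    ∀ g : G, χ g = ((((63 : ℕ) : ℚ) / (840 : ℕ) * ∑ i : Fin 840, om a63 (isz (Fm 100 mk i) (g⁻¹ • Fm 100 mk i)) : ℚ) : ℂ) :=
  char a63 5 ![![0, 0, 0, 0, 0, 0, 0], ![-3/40, 1/2, -7/8, 0, 2, -3/2, 0], ![1/15, 0, 0, 0, 0, 0, 0],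
    ![1/80, -1/4, 5/16, -1/5, -1/2, 3/4, 0], ![-1/80, 1/6, -7/48, 0, 1/3, -1/4, 0], ![1/60, 0, 1/12, 0, 0, 0, 0],
    ![1/240, -1/12, 5/48, 0, -1/6, 1/4, 0]] 63 (by decide +kernel) (by decide +kernel) (by decide +kernel)
    (by decide +kernel)

theorem exists_175 : ∃ χ : G → ℂ, IsIrrCharacter G χ ∧ χ 1 = (175 : ℕ) ∧ ∀ g : G, ∃ q : ℚ, χ g = q := by
  obtain ⟨χ, h1, h2, h3⟩ := char ![1, 1/10, -1/5, -1/4, -1/20, 0, 1/20] (-3) ![![0, 0, 0, 0, 0, 0, 0],
    ![-7/360, 5/18, -1/24, 0, -2/3, 1/2, 0], ![1/15, 0, 0, 0, 0, 0, 0], ![-1/48, -5/36, 5/16, 1/3, 5/6, -5/4, 0],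
    ![7/720, -1/18, 1/48, 0, 1/3, -1/4, 0], ![-1/36, 0, 1/12, 0, 0, 0, 0], ![1/240, 1/36, -1/16, 0, -1/6, 1/4, 0]] 175
    (by decide +kernel) (by decide +kernel) (by decide +kernel) (by decide +kernel)
  exact ⟨χ, h1, h2, fun g => ⟨_, h3 g⟩⟩

theorem exists_225 : ∃ χ : G → ℂ, IsIrrCharacter G χ ∧ χ 1 = (225 : ℕ) ∧ ∀ g : G, ∃ q : ℚ, χ g = q := by
  obtain ⟨χ, h1, h2, h3⟩ := char ![1, -1/5, -1/15, 0, 1/15, -1/15, 0] (-1) ![![0, 0, 0, 0, 0, 0, 0],
    ![-1/20, 3/8, 1/4, 3/8, -1/2, 0, -3/8], ![1/15, 0, 0, 0, 0, 0, 0], ![0, 5/16, 0, 1/16, -5/4, 0, 15/16],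
    ![1/60, -1/24, -1/12, -1/8, 1/6, 0, 1/8], ![-1/60, 0, 1/12, 0, 0, 0, 0], ![0, -1/48, 0, 1/16, 1/12, 0, -1/16]] 225
    (by decide +kernel) (by decide +kernel) (by decide +kernel) (by decide +kernel)
  exact ⟨χ, h1, h2, fun g => ⟨_, h3 g⟩⟩

/-! ### an element of order 15 -/

/-- the element `E D B A` -/
def el : G := ⟨pE, mE⟩ * ⟨pD, mD⟩ * ⟨pB, mB⟩ * ⟨pA, mA⟩

/-- its action on the points -/
def st (i : ℕ) : ℕ := lk tE (lk tD (lk tB (lk tA i)))

theorem el_apply (i : Fin 100) : (((el : Perm (Fin 100)) i : Fin 100) : ℕ) = st i := by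
  show ((pE (pD (pB (pA i))) : Fin 100) : ℕ) = _
  rw [show ((pE (pD (pB (pA i))) : Fin 100) : ℕ) = lk tE (pD (pB (pA i)) : Fin 100) from mkPerm_val tE tE iE _,
    show ((pD (pB (pA i)) : Fin 100) : ℕ) = lk tD (pB (pA i) : Fin 100) from mkPerm_val tD tD iD _,
    show ((pB (pA i) : Fin 100) : ℕ) = lk tB (pA i : Fin 100) from mkPerm_val tB tB iB _,
    show ((pA i : Fin 100) : ℕ) = lk tA (i : Fin 100) from mkPerm_val tA tA iA _]
  rfl

/-- iterates -/
def it : ℕ → ℕ → ℕ := Nat.rec (fun i => i) (fun _ ih i => ih (st i))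

theorem pow_apply (n : ℕ) : ∀ i : Fin 100, ((((el ^ n : G) : Perm (Fin 100)) i : Fin 100) : ℕ) = it n i := by
  induction n with
  | zero => intro i; rfl
  | succ n ih =>
    intro i
    rw [pow_succ]
    show ((((el ^ n : G) : Perm (Fin 100)) ((el : Perm (Fin 100)) i) : Fin 100) : ℕ) = it n (st i)
    rw [ih, el_apply]

theorem chk15 : allB (fun i => Nat.beq (it 15 i) i) 100 = true := by decide +kernel
theorem chk3 : allB (fun i => Nat.beq (it 3 i) i) 100 = false := by decide +kernel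

theorem el_pow : el ^ 15 = 1 := by
  apply Subtype.ext
  apply Equiv.ext
  intro i
  apply Fin.ext
  rw [pow_apply]
  exact Nat.eq_of_beq_eq_true ((allB_iff _ _).1 chk15 i i.2)

theorem el_pow3 : el ^ 3 ≠ 1 := by
  intro h
  have h1 : allB (fun i => Nat.beq (it 3 i) i) 100 = true := by
    rw [allB_iff]
    intro i hi
    have h2 := pow_apply 3 ⟨i, hi⟩
    rw [h] at h2
    rw [← h2]
    exact Nat.beq_refl _
  rw [chk3] at h1
  exact Bool.noConfusion h1

theorem el_order : Odd (orderOf el) ∧ 5 ∣ orderOf el := by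
  have h1 : orderOf el ∣ 15 := orderOf_dvd_of_pow_eq_one el_pow
  have h2 : ¬ orderOf el ∣ 3 := fun h => el_pow3 (orderOf_dvd_iff_pow_eq_one.1 h)
  have h3 : orderOf el ≤ 15 := Nat.le_of_dvd (by norm_num) h1
  have h4 : orderOf el = 5 ∨ orderOf el = 15 := by
    have h5 : orderOf el ∈ Nat.divisors 15 := Nat.mem_divisors.2 ⟨h1, by norm_num⟩
    have h6 : Nat.divisors 15 = {1, 3, 5, 15} := by decide +kernel
    rw [h6] at h5
    simp only [Finset.mem_insert, Finset.mem_singleton] at h5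
    rcases h5 with h | h | h | h
    · exact absurd (h ▸ one_dvd 3) h2
    · exact absurd (h ▸ dvd_rfl) h2
    · exact Or.inl h
    · exact Or.inr h
  rcases h4 with h | h <;> rw [h] <;> exact ⟨by decide, by norm_num⟩

/-- its action on the subsets -/
def sq (i : ℕ) : ℕ := lk qE (lk qD (lk qB (lk qA i)))

theorem act_gen {pq : ℕ × ℕ} (hpq : pq ∈ PQ) {p : Perm (Fin 100)} (hp : p ∈ G)
    (h : ∀ i : Fin 100, ((p i : Fin 100) : ℕ) = lk pq.1 i) {x : ℕ} (hx : x < 840) :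
    lk pq.2 x < 840 ∧ (⟨p, hp⟩ : G) • Fm 100 mk x = Fm 100 mk (lk pq.2 x) :=
  cor_of_chkPQ ((allL_iff _ _).1 c1 pq hpq) (⟨p, hp⟩ : G) h x hx

theorem el_act {x : ℕ} (hx : x < 840) : el • Fm 100 mk x = Fm 100 mk (sq x) := by
  obtain ⟨h1, h2⟩ := act_gen (pq := (tA, qA)) (by simp [PQ]) mA (fun i => mkPerm_val tA tA iA i) hx
  obtain ⟨h3, h4⟩ := act_gen (pq := (tB, qB)) (by simp [PQ]) mB (fun i => mkPerm_val tB tB iB i) h1
  obtain ⟨h5, h6⟩ := act_gen (pq := (tD, qD)) (by simp [PQ]) mD (fun i => mkPerm_val tD tD iD i) h3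
  obtain ⟨h7, h8⟩ := act_gen (pq := (tE, qE)) (by simp [PQ]) mE (fun i => mkPerm_val tE tE iE i) h5
  unfold el
  rw [mul_smul, mul_smul, mul_smul, h2, h4, h6, h8]
  rfl

/-- the number of elements of a mask -/
def pc (m : ℕ) : ℕ → ℕ := Nat.rec 0 (fun i ih => Nat.add ih (Nat.land (Nat.shiftRight m i) 1))

theorem pc_eq (m n : ℕ) : pc m n = ((Finset.range n).filter (fun i => tb m i = true)).card := by
  induction n with
  | zero => rfl
  | succ n ih =>
    have h1 : pc m (n + 1) = pc m n + Nat.land (Nat.shiftRight m n) 1 := rfl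
    have h2 : Nat.land (Nat.shiftRight m n) 1 = if tb m n = true then 1 else 0 := by
      unfold tb
      have h3 : Nat.land (Nat.shiftRight m n) 1 = Nat.shiftRight m n &&& 1 := rfl
      rw [h3, Nat.and_one_is_mod]
      rcases Nat.mod_two_eq_zero_or_one (Nat.shiftRight m n) with h | h <;> rw [h] <;> rfl
    rw [h1, h2, ih, Finset.range_add_one, Finset.filter_insert]
    split_ifs with h
    · rw [Finset.card_insert_of_notMem (by simp)]
    · rfl

theorem isz_pc (x y : ℕ) : isz (Fm 100 mk x) (Fm 100 mk y) = pc (Nat.land (mk x) (mk y)) 100 := by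
  rw [pc_eq]
  have h1 := (cntB_iff (fun i => tb (Nat.land (mk x) (mk y)) i) 100 (isz (Fm 100 mk x) (Fm 100 mk y))).1 (by
    rw [← isz_eq]
    exact Nat.beq_refl _)
  exact h1.symm

/-- `12 ω + 3` for the character of degree 63 -/
def w63 (s : ℕ) : ℕ := cond (Nat.beq s 40) 15 (cond (Nat.beq s 28) 9 (cond (Nat.beq s 24) 7 (cond (Nat.beq s 10) 0
  (cond (Nat.beq s 18) 4 (cond (Nat.beq s 16) 3 (cond (Nat.beq s 14) 2 3))))))

theorem beq_false {s t : ℕ} (h : s ≠ t) : Nat.beq s t = false := by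
  rw [Bool.eq_false_iff]
  exact fun h1 => h (Nat.eq_of_beq_eq_true h1)

theorem om_w63 (s : ℕ) : om a63 s = ((w63 s : ℚ) - 3) / 12 := by
  by_cases h1 : s = 40
  · subst h1; decide +kernel
  by_cases h2 : s = 28
  · subst h2; decide +kernel
  by_cases h3 : s = 24
  · subst h3; decide +kernel
  by_cases h4 : s = 10
  · subst h4; decide +kernel
  by_cases h5 : s = 18
  · subst h5; decide +kernel
  by_cases h6 : s = 16
  · subst h6; decide +kernel
  by_cases h7 : s = 14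
  · subst h7; decide +kernel
  have e1 : om a63 s = 0 := by
    unfold om
    refine Finset.sum_eq_zero fun i _ => ?_
    rw [if_neg]
    unfold ss
    fin_cases i <;> simpa
  have e2 : w63 s = 3 := by
    unfold w63
    rw [beq_false h1, beq_false h2, beq_false h3, beq_false h4, beq_false h5, beq_false h6, beq_false h7]
    rfl
  rw [e1, e2]
  norm_num

/-- a sum -/
def sm (f : ℕ → ℕ) : ℕ → ℕ := Nat.rec 0 (fun i ih => Nat.add ih (f i))

theorem sm_eq (f : ℕ → ℕ) (n : ℕ) : sm f n = ∑ i : Fin n, f i := by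
  induction n with
  | zero => rfl
  | succ n ih =>
    rw [Fin.sum_univ_castSucc]
    show sm f n + f n = _
    rw [ih]
    rfl

theorem chk_sum : Nat.beq (sm (fun i => w63 (pc (Nat.land (mk i) (mk (sq i))) 100)) 840) 2520 = true := by decide +kernel

theorem sum63 : ∑ i : Fin 840, om a63 (isz (Fm 100 mk i) (el • Fm 100 mk i)) = 0 := by
  have h1 : ∀ i : Fin 840, om a63 (isz (Fm 100 mk i) (el • Fm 100 mk i)) =
      ((w63 (pc (Nat.land (mk i) (mk (sq i))) 100) : ℕ) : ℚ) / 12 - 1 / 4 := by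
    intro i
    rw [el_act i.2, isz_pc, om_w63]
    ring
  rw [Finset.sum_congr rfl fun i _ => h1 i, Finset.sum_sub_distrib, ← Finset.sum_div, ← Nat.cast_sum,
    ← sm_eq (fun i => w63 (pc (Nat.land (mk i) (mk (sq i))) 100)) 840, Nat.eq_of_beq_eq_true chk_sum]
  simp
  norm_num

end Cfsg.Agent.H300.K4.JTwoDeg
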