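import Cfsg.Agent.H678.DG.Blk
import Cfsg.Agent.PermChar.SymAlt

/-!
# Irreducible characters from spherical functions on an orbit of subsets, with their values (helper300)

* `exists_val` : `V` is a `G`-invariant space of functions on `X`, `Ω` an invariant hermitian kernel with `Ω x₀` in `V`,
  and the functions of `V` fixed by the subgroup `K` of the stabiliser of `x₀` are the multiples of `Ω x₀`. Then `V`
  affords an irreducible character with the values `|v|⁻² ∑ Ω x (g⁻¹ x)`.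
* `exists_of_kernel_val`, `exists_of_index_val`, `of_tables` : as in helper678's `Sph`, `Idx`, `Blk`, with the values.
-/

set_option autoImplicit false

namespace Cfsg.Agent.H300.K4.Val

open Cfsg Representation Cfsg.Agent.H678.DG.Sph
open scoped ComplexConjugate

universe u v

section main

variable {G : Type u} [Group G] [Finite G] {X : Type v} [Fintype X] [MulAction G X]

variable {V : Submodule ℂ (X → ℂ)}

/-- **Spherical functions, with values.** -/
theorem exists_val [MulAction.IsPretransitive G X]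
    (hV : ∀ (g : G), ∀ φ ∈ V, (fun x => φ (g⁻¹ • x)) ∈ V) (x₀ : X) (Ω : X → X → ℂ)
    (hΩ : ∀ (g : G) x y, Ω (g • x) (g • y) = Ω x y) (hΩs : ∀ x y, Ω x y = conj (Ω y x))
    (hv : Ω x₀ ∈ V) (hv1 : Ω x₀ x₀ = 1)
    (K : Subgroup G) (hK : ∀ g ∈ K, g • x₀ = x₀)
    (huniq : ∀ φ ∈ V, (∀ g ∈ K, ∀ x, φ (g • x) = φ x) → ∃ c : ℂ, φ = c • Ω x₀) :
    ∃ χ : IrrCharacter G, (charDegree (χ : G → ℂ) : ℂ) * nrm (Ω x₀) = (Fintype.card X : ℂ) ∧
      ∀ g : G, (χ : G → ℂ) g = (nrm (Ω x₀))⁻¹ * ∑ x, Ω x (g⁻¹ • x) := by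
  classical
  obtain ⟨χ, h1, h2⟩ := exists_of_spherical' hV x₀ hv hv1 K hK huniq
  refine ⟨χ, h1, fun g => ?_⟩
  have hN0 := nrm_ne_zero hv1
  have hvK : ∀ g : G, g • x₀ = x₀ → ∀ x, Ω x₀ (g • x) = Ω x₀ x := by
    intro g hg x
    conv_lhs => rw [← hg]
    exact hΩ g x₀ x
  have huniq' : ∀ φ ∈ V, (∀ g : G, g • x₀ = x₀ → ∀ x, φ (g • x) = φ x) → ∃ c : ℂ, φ = c • Ω x₀ :=
    fun φ hφ h => huniq φ hφ fun g hg => h g (hK g hg)
  -- the reproducing property
  have hrep : ∀ φ ∈ V, ∀ y, ∑ x, φ x * conj (Ω y x) = φ y * nrm (Ω x₀) := by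
    intro φ hφ y
    obtain ⟨γ, rfl⟩ := MulAction.exists_smul_eq G x₀ y
    have h3 := (average x₀ hv1 hvK huniq' V le_rfl hV (hV γ⁻¹ φ hφ)).2
    simp only [inv_inv] at h3
    rw [← h3, ← Equiv.sum_comp (MulAction.toPerm γ) fun x => φ x * conj (Ω (γ • x₀) x)]
    refine Finset.sum_congr rfl fun x _ => ?_
    rw [MulAction.toPerm_apply, hΩ]
  have hmemV : ∀ (g : G) (x : X), (fun y => Ω x (g⁻¹ • y)) ∈ V := by
    intro g x
    obtain ⟨γ, rfl⟩ := MulAction.exists_smul_eq G x₀ x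
    have h3 := hV (g * γ) (Ω x₀) hv
    have h4 : (fun y => Ω (γ • x₀) (g⁻¹ • y)) = fun y => Ω x₀ ((g * γ)⁻¹ • y) := by
      funext y
      rw [mul_inv_rev, mul_smul, ← hΩ γ x₀, smul_inv_smul]
    rw [h4]
    exact h3
  let T : (X → ℂ) →ₗ[ℂ] (X → ℂ) := Matrix.toLin' (Matrix.of fun y x => (nrm (Ω x₀))⁻¹ * Ω x (g⁻¹ • y))
  have hT : ∀ φ y, T φ y = ∑ x, (nrm (Ω x₀))⁻¹ * Ω x (g⁻¹ • y) * φ x := fun φ y => by
    show Matrix.toLin' _ φ y = _
    rw [Matrix.toLin'_apply, Matrix.mulVec, dotProduct]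
    rfl
  have hTV : ∀ φ, T φ ∈ V := by
    intro φ
    have h3 : T φ = ∑ x, ((nrm (Ω x₀))⁻¹ * φ x) • (fun y => Ω x (g⁻¹ • y)) := by
      funext y
      rw [hT, Finset.sum_apply]
      refine Finset.sum_congr rfl fun x _ => ?_
      rw [Pi.smul_apply, smul_eq_mul]
      ring
    rw [h3]
    exact V.sum_mem fun x _ => V.smul_mem _ (hmemV g x)
  have hTr : ∀ φ ∈ V, ∀ y, T φ y = φ (g⁻¹ • y) := by
    intro φ hφ y
    rw [hT]
    have h3 := hrep φ hφ (g⁻¹ • y)
    have h4 : ∑ x, (nrm (Ω x₀))⁻¹ * Ω x (g⁻¹ • y) * φ x = (nrm (Ω x₀))⁻¹ * ∑ x, φ x * conj (Ω (g⁻¹ • y) x) := by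
      rw [Finset.mul_sum]
      refine Finset.sum_congr rfl fun x _ => ?_
      rw [← hΩs]
      ring
    rw [h4, h3, mul_comm (φ _), ← mul_assoc, inv_mul_cancel₀ hN0, one_mul]
  have h5 : rep V hV g = T.restrict (fun φ _ => hTV φ) := by
    apply LinearMap.ext
    intro φ
    apply Subtype.ext
    funext y
    show (φ : X → ℂ) (g⁻¹ • y) = T φ y
    rw [hTr φ φ.2]
  rw [h2]
  show LinearMap.trace ℂ V (rep V hV g) = _
  rw [h5, Cfsg.Agent.PermChar.SymAlt.trace_restrict T V hTV]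
  show LinearMap.trace ℂ (X → ℂ) (Matrix.toLin' _) = _
  rw [Matrix.trace_toLin'_eq, Finset.mul_sum]
  rfl

variable {n : ℕ}

/-- **The constituent belonging to a simple eigenvalue of an invariant rational kernel.** -/
theorem exists_of_kernel_val [MulAction.IsPretransitive G X] (E : X → X → ℚ)
    (hE : ∀ (g : G) x y, E (g • x) (g • y) = E x y) (x₀ : X) (K : Subgroup G) (hK : ∀ g ∈ K, g • x₀ = x₀)
    (cls : X → Fin n) (r : Fin n → X) (hcls : ∀ g ∈ K, ∀ x, cls (g • x) = cls x)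
    (htr : ∀ x, ∃ g ∈ K, g • r (cls x) = x) (B : Fin n → Fin n → ℚ)
    (hB : ∀ i j, ∑ y ∈ Finset.univ.filter (fun y => cls y = j), E (r i) y = B i j)
    (k : Fin n → ℕ) (hk : ∀ j, (Finset.univ.filter fun y => cls y = j).card = k j) (c : Fin n) (hc : cls x₀ = c)
    (a : Fin n → ℚ) (t : ℚ) (L : Fin n → Fin n → ℚ) (d N : ℕ) (hN : Fintype.card X = N)
    (ha : a c = 1) (hBa : ∀ i, ∑ j, B i j * a j = t * a i)
    (hL : ∀ i j, ∑ l, L i l * (B l j - if l = j then t else 0) =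
      (if i = j then 1 else 0) - if j = c then a i else 0)
    (hd : (d : ℚ) * ∑ j, (k j : ℚ) * (a j * a j) = N)
    (Ω : X → X → ℚ) (hΩ : ∀ (g : G) x y, Ω (g • x) (g • y) = Ω x y) (hΩs : ∀ x y, Ω x y = Ω y x)
    (hΩa : ∀ i, Ω x₀ (r i) = a i) :
    ∃ χ : G → ℂ, IsIrrCharacter G χ ∧ χ 1 = d ∧
      ∀ g : G, χ g = (((d : ℚ) / N * ∑ x, Ω x (g⁻¹ • x) : ℚ) : ℂ) := by
  classical
  have hsum := sum_kernel (fun x y => (E x y : ℂ)) cls r (fun i j => (B i j : ℂ)) (fun i j => by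
    rw [← hB]; push_cast; rfl)
  let V : Submodule ℂ (X → ℂ) :=
    { carrier := {φ | ∀ x, ∑ y, (E x y : ℂ) * φ y = (t : ℂ) * φ x}
      add_mem' := by
        intro φ ψ h1 h2 x
        have h3 : ∀ y, (E x y : ℂ) * (φ + ψ) y = (E x y : ℂ) * φ y + (E x y : ℂ) * ψ y := fun y => by
          rw [Pi.add_apply, mul_add]
        rw [Finset.sum_congr rfl fun y _ => h3 y, Finset.sum_add_distrib, h1 x, h2 x, Pi.add_apply]
        ring
      zero_mem' := by
        intro x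
        simp
      smul_mem' := by
        intro c φ h1 x
        have h3 : ∀ y, (E x y : ℂ) * (c • φ) y = c * ((E x y : ℂ) * φ y) := fun y => by
          rw [Pi.smul_apply, smul_eq_mul]; ring
        rw [Finset.sum_congr rfl fun y _ => h3 y, ← Finset.mul_sum, h1 x, Pi.smul_apply, smul_eq_mul]
        ring }
  have hVm : ∀ φ : X → ℂ, φ ∈ V ↔ ∀ x, ∑ y, (E x y : ℂ) * φ y = (t : ℂ) * φ x := fun _ => Iff.rfl
  have htrans : ∀ (g : G) (φ : X → ℂ) x, ∑ y, (E x y : ℂ) * φ (g⁻¹ • y) = ∑ y, (E (g⁻¹ • x) y : ℂ) * φ y := by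
    intro g φ x
    rw [← Equiv.sum_comp (MulAction.toPerm g) fun y => (E x y : ℂ) * φ (g⁻¹ • y)]
    refine Finset.sum_congr rfl fun y _ => ?_
    rw [MulAction.toPerm_apply, inv_smul_smul]
    have h1 : E x (g • y) = E (g⁻¹ • x) y := by
      rw [← hE g (g⁻¹ • x) y, smul_inv_smul]
    rw [h1]
  have hVG : ∀ (g : G), ∀ φ ∈ V, (fun x => φ (g⁻¹ • x)) ∈ V := by
    intro g φ h1
    rw [hVm] at h1 ⊢
    intro x
    rw [htrans, h1]
  have hΩcls : ∀ x, Ω x₀ x = a (cls x) := by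
    intro x
    obtain ⟨g, hg, hx⟩ := htr x
    have h := hΩ g x₀ (r (cls x))
    rw [hK g hg, hx] at h
    rw [h, hΩa]
  have he : (fun x => ((Ω x₀ x : ℚ) : ℂ)) ∈ V := by
    rw [hVm]
    intro x
    obtain ⟨g, hg, hx⟩ := htr x
    have h1 := htrans g⁻¹ (fun y => ((Ω x₀ y : ℚ) : ℂ)) (r (cls x))
    rw [inv_inv, hx] at h1
    rw [← h1]
    have h2 : ∀ y, (E (r (cls x)) y : ℂ) * ((Ω x₀ (g • y) : ℚ) : ℂ) = (E (r (cls x)) y : ℂ) * ((a (cls y) : ℚ) : ℂ) := by
      intro y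
      rw [hΩcls, hcls g hg]
    rw [Finset.sum_congr rfl fun y _ => h2 y, hsum (fun i => (a i : ℂ)) (cls x), hΩcls]
    exact_mod_cast hBa (cls x)
  obtain ⟨χ, h1, h2⟩ := exists_val (V := V) hVG x₀ (fun x y => ((Ω x y : ℚ) : ℂ)) (fun g x y => by rw [hΩ])
    (fun x y => by rw [hΩs x y, ← Complex.ofReal_ratCast, Complex.conj_ofReal]) he (by
      show ((Ω x₀ x₀ : ℚ) : ℂ) = 1
      rw [hΩcls, hc, ha, Rat.cast_one]) K hK (by
    intro φ hφ hK'
    let a' : Fin n → ℂ := fun i => φ (r i)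
    have haφ : ∀ x, φ x = a' (cls x) := by
      intro x
      obtain ⟨g, hg, hx⟩ := htr x
      show φ x = φ (r (cls x))
      rw [← hK' g hg (r (cls x)), hx]
    have h2 : ∀ i, ∑ j, (B i j : ℂ) * a' j = (t : ℂ) * a' i := by
      intro i
      rw [← hsum a' i]
      have h3 := (hVm φ).1 hφ (r i)
      rw [Finset.sum_congr rfl fun y _ => by rw [haφ y]] at h3
      exact h3
    have huniq : ∀ i, a' i = a' c * a i := by
      intro i
      have h1 : ∑ l, (L i l : ℂ) * (∑ j, ((B l j : ℂ) - if l = j then (t : ℂ) else 0) * a' j) = 0 := by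
        refine Finset.sum_eq_zero fun l _ => ?_
        have h2' : ∑ j, ((B l j : ℂ) - if l = j then (t : ℂ) else 0) * a' j = 0 := by
          simp only [sub_mul, ite_mul, zero_mul]
          rw [Finset.sum_sub_distrib, Finset.sum_ite_eq, if_pos (Finset.mem_univ _), h2 l, sub_self]
        rw [h2', mul_zero]
      have h3 : ∑ l, (L i l : ℂ) * (∑ j, ((B l j : ℂ) - if l = j then (t : ℂ) else 0) * a' j) =
          ∑ j, (∑ l, (L i l : ℂ) * ((B l j : ℂ) - if l = j then (t : ℂ) else 0)) * a' j := by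
        simp only [Finset.mul_sum, Finset.sum_mul]
        rw [Finset.sum_comm]
        refine Finset.sum_congr rfl fun j _ => Finset.sum_congr rfl fun l _ => ?_
        ring
      have h4 : ∀ j, ∑ l, (L i l : ℂ) * ((B l j : ℂ) - if l = j then (t : ℂ) else 0) =
          (if i = j then (1 : ℂ) else 0) - if j = c then (a i : ℂ) else 0 := by
        intro j
        have h5 := congrArg (fun q : ℚ => (q : ℂ)) (hL i j)
        simp only [Rat.cast_sub, Rat.cast_sum, Rat.cast_mul, apply_ite (Rat.cast : ℚ → ℂ), Rat.cast_one,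
          Rat.cast_zero] at h5
        exact h5
      rw [h3, Finset.sum_congr rfl fun j _ => by rw [h4 j]] at h1
      simp only [sub_mul, ite_mul, zero_mul, one_mul] at h1
      rw [Finset.sum_sub_distrib, Finset.sum_ite_eq, Finset.sum_ite_eq', if_pos (Finset.mem_univ _),
        if_pos (Finset.mem_univ _)] at h1
      linear_combination h1
    refine ⟨a' c, funext fun x => ?_⟩
    show φ x = a' c * ((Ω x₀ x : ℚ) : ℂ)
    rw [haφ, huniq, hΩcls])
  -- the norm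
  have hnrm : nrm (fun x => ((Ω x₀ x : ℚ) : ℂ)) = ((∑ j, (k j : ℚ) * (a j * a j) : ℚ) : ℂ) := by
    have h3 : (fun x => ((Ω x₀ x : ℚ) : ℂ)) = fun x => ((a (cls x) : ℚ) : ℂ) := by
      funext x
      rw [hΩcls]
    rw [h3, nrm_cls cls k hk fun i => ((a i : ℚ) : ℂ)]
    push_cast
    refine Finset.sum_congr rfl fun j _ => ?_
    rw [← Complex.ofReal_ratCast, Complex.conj_ofReal]
  rw [hnrm] at h1 h2
  have hN0 : (N : ℚ) ≠ 0 := by
    have h4 : 0 < Fintype.card X := Fintype.card_pos_iff.2 ⟨x₀⟩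
    rw [hN] at h4
    exact Nat.cast_ne_zero.2 h4.ne'
  have hs0 : (∑ j, (k j : ℚ) * (a j * a j)) ≠ 0 := by
    intro h0
    rw [h0, mul_zero] at hd
    exact hN0 hd.symm
  have hd0 : (d : ℚ) ≠ 0 := by
    intro h0
    rw [h0, zero_mul] at hd
    exact hN0 hd.symm
  have hinv : (∑ j, (k j : ℚ) * (a j * a j))⁻¹ = (d : ℚ) / N := by
    rw [← hd]
    field_simp
  refine ⟨χ, χ.2, ?_, fun g => ?_⟩
  · have h5 : (charDegree (χ : G → ℂ) : ℚ) * (∑ j, (k j : ℚ) * (a j * a j)) = N := by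
      rw [hN] at h1
      exact_mod_cast h1
    have h6 : (charDegree (χ : G → ℂ) : ℚ) = d := mul_right_cancel₀ hs0 (h5.trans hd.symm)
    rw [Cfsg.Agent.Blocks.Basic.irr_one_eq_charDegree χ.2]
    exact_mod_cast h6
  · rw [h2 g, ← hinv]
    push_cast
    rfl

end main

section index

variable {G : Type u} [Group G] [Finite G] {Y : Type v} [MulAction G Y] {M n : ℕ}

open Cfsg.Agent.H678.DG.Idx

/-- **The case of an indexed orbit.** -/
theorem of_index (y : Fin M → Y) (hinj : Function.Injective y) (i₀ : Fin M)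
    (hcl : ∀ g : G, ∀ i, ∃ j, g • y i = y j) (htrG : ∀ i, ∃ g : G, g • y i₀ = y i)
    (K : Subgroup G) (hK : ∀ g ∈ K, g • y i₀ = y i₀) (cls : Fin M → Fin n) (r : Fin n → Fin M)
    (hcls : ∀ g ∈ K, ∀ i j, g • y i = y j → cls j = cls i)
    (htr : ∀ i, ∃ g ∈ K, g • y (r (cls i)) = y i)
    (E : Y → Y → Bool) (hE : ∀ (g : G) x z, E (g • x) (g • z) = E x z) (B : Fin n → Fin n → ℕ)
    (hB : ∀ i j, (Finset.univ.filter fun k : Fin M => E (y (r i)) (y k) = true ∧ cls k = j).card = B i j)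
    (kk : Fin n → ℕ) (hk : ∀ j, (Finset.univ.filter fun i => cls i = j).card = kk j) (c : Fin n) (hc : cls i₀ = c)
    (a : Fin n → ℚ) (t : ℚ) (L : Fin n → Fin n → ℚ) (d : ℕ)
    (ha : a c = 1) (hBa : ∀ i, ∑ j, (B i j : ℚ) * a j = t * a i)
    (hL : ∀ i j, ∑ l, L i l * ((B l j : ℚ) - if l = j then t else 0) =
      (if i = j then 1 else 0) - if j = c then a i else 0)
    (hd : (d : ℚ) * ∑ j, (kk j : ℚ) * (a j * a j) = M)
    (Ω : Y → Y → ℚ) (hΩ : ∀ (g : G) x z, Ω (g • x) (g • z) = Ω x z) (hΩs : ∀ x z, Ω x z = Ω z x)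
    (hΩa : ∀ i, Ω (y i₀) (y (r i)) = a i) :
    ∃ χ : G → ℂ, IsIrrCharacter G χ ∧ χ 1 = d ∧
      ∀ g : G, χ g = (((d : ℚ) / M * ∑ i, Ω (y i) (g⁻¹ • y i) : ℚ) : ℂ) := by
  classical
  let act : MulAction G (Orb y) := orbAct y hcl
  let e := eqv y hinj
  let ft : Fintype (Orb y) := Fintype.ofEquiv _ e
  have hsm : ∀ (g : G) (x : Orb y), (g • x).1 = g • x.1 := fun _ _ => rfl
  have he : ∀ i, (e i).1 = y i := fun _ => rfl
  have hes : ∀ x : Orb y, y (e.symm x) = x.1 := fun x => by rw [← he, e.apply_symm_apply]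
  have htrans : MulAction.IsPretransitive G (Orb y) := by
    have key : ∀ x : Orb y, ∃ g : G, g • e i₀ = x := by
      intro x
      obtain ⟨g, hg⟩ := htrG (e.symm x)
      refine ⟨g, Subtype.ext ?_⟩
      rw [hsm, he, hg, hes]
    refine ⟨fun x z => ?_⟩
    obtain ⟨g, rfl⟩ := key x
    obtain ⟨h, rfl⟩ := key z
    exact ⟨h * g⁻¹, by rw [mul_smul, inv_smul_smul]⟩
  have hcard : Fintype.card (Orb y) = M := by
    rw [Fintype.card_congr e.symm, Fintype.card_fin]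
  obtain ⟨χ, h1, h2, h3⟩ := exists_of_kernel_val (X := Orb y) (fun x z => if E x.1 z.1 = true then 1 else 0)
    (fun g x z => by
      have h := hE g x.1 z.1
      rw [← hsm, ← hsm] at h
      rw [h]) (e i₀) K
    (fun g hg => Subtype.ext (hK g hg)) (fun x => cls (e.symm x)) (fun i => e (r i)) (by
      intro g hg x
      refine hcls g hg _ _ ?_
      rw [hes, hes, hsm]) (by
      intro x
      obtain ⟨g, hg, h⟩ := htr (e.symm x)
      refine ⟨g, hg, Subtype.ext ?_⟩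
      rw [hsm, he, h, hes]) (fun i j => (B i j : ℚ)) (by
      intro i j
      rw [← Finset.sum_filter, Finset.sum_const, nsmul_eq_mul, mul_one, Finset.filter_filter, ← hB i j]
      congr 1
      refine Finset.card_bij (fun x _ => e.symm x) ?_ ?_ ?_
      · intro x hx
        rw [Finset.mem_filter] at hx ⊢
        refine ⟨Finset.mem_univ _, ?_, hx.2.1⟩
        rw [hes]
        exact hx.2.2
      · intro x _ z _ h
        exact e.symm.injective h
      · intro k hk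
        rw [Finset.mem_filter] at hk
        refine ⟨e k, ?_, e.symm_apply_apply k⟩
        rw [Finset.mem_filter]
        refine ⟨Finset.mem_univ _, ?_, hk.2.1⟩
        rw [e.symm_apply_apply]
        exact hk.2.2) kk (by
      intro j
      rw [← hk j]
      refine Finset.card_bij (fun x _ => e.symm x) ?_ ?_ ?_
      · intro x hx
        rw [Finset.mem_filter] at hx ⊢
        exact ⟨Finset.mem_univ _, hx.2⟩
      · intro x _ z _ h
        exact e.symm.injective h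
      · intro k hk
        rw [Finset.mem_filter] at hk
        refine ⟨e k, ?_, e.symm_apply_apply k⟩
        rw [Finset.mem_filter]
        refine ⟨Finset.mem_univ _, ?_⟩
        rw [e.symm_apply_apply]
        exact hk.2) c (by
      rw [e.symm_apply_apply]
      exact hc) a t L d M hcard ha hBa hL hd (fun x z => Ω x.1 z.1) (fun g x z => hΩ g x.1 z.1)
    (fun x z => hΩs x.1 z.1) (fun i => hΩa i)
  refine ⟨χ, h1, h2, fun g => ?_⟩
  rw [h3 g, ← Equiv.sum_comp e]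
  rfl

end index

section tables

open Cfsg.Agent.SporadicA.PermTab Cfsg.Agent.H678.DG.Blk Equiv

variable {N M : ℕ} {G : Subgroup (Perm (Fin N))}

theorem isz_comm (f f' : Y N) : isz f f' = isz f' f := by
  unfold isz
  congr 1
  ext i
  simp only [Finset.mem_filter, Finset.mem_univ, true_and]
  exact and_comm

/-- **Characters from tables, with values.** -/
theorem of_tables {n s : ℕ} {mk : ℕ → ℕ} {GT : Set (Perm (Fin N))} (hG : G = Subgroup.closure GT)
    {PQ : List (ℕ × ℕ)} (hGT : ∀ g ∈ GT, ∃ pq ∈ PQ, ∀ i : Fin N, ((g i : Fin N) : ℕ) = lk pq.1 i)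
    (hin : ∀ pq ∈ PQ, InG G pq.1) {bs : List ℕ} {KW : List (List (ℕ × ℕ))} (hKW : ∀ w ∈ KW, ∀ pq ∈ w, pq ∈ PQ)
    {pr : ℕ → ℕ} {kk : ℕ → ℕ} {B : ℕ → ℕ → ℕ} (hM : 0 < M) (hlab0 : lab bs 0 = 0)
    (h1 : allL (chkPQ N M mk) PQ = true) (h2 : chkInj M N mk = true) (h3 : allL (chkW M bs) KW = true)
    (h4 : chkF M bs PQ KW pr = true) (h5 : chkK M n bs kk = true) (h6 : chkB N M n s mk bs B = true)
    (hn : 0 < n) (a : Fin n → ℚ) (t : ℚ) (L : Fin n → Fin n → ℚ) (d : ℕ)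
    (ha : a ⟨0, hn⟩ = 1) (hBa : ∀ i : Fin n, ∑ j : Fin n, (B i j : ℚ) * a j = t * a i)
    (hL : ∀ i j : Fin n, ∑ l : Fin n, L i l * ((B l j : ℚ) - if l = j then t else 0) =
      (if i = j then 1 else 0) - if j = ⟨0, hn⟩ then a i else 0)
    (hd : (d : ℚ) * ∑ j : Fin n, (kk j : ℚ) * (a j * a j) = M)
    (ω : ℕ → ℚ) (hω : ∀ i : Fin n, ω (isz (Fm N mk 0) (Fm N mk (rt bs i))) = a i) :
    ∃ χ : G → ℂ, IsIrrCharacter G χ ∧ χ 1 = d ∧
      ∀ g : G, χ g = (((d : ℚ) / M * ∑ i : Fin M, ω (isz (Fm N mk i) (g⁻¹ • Fm N mk i)) : ℚ) : ℂ) := by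
  classical
  set F := Fm N mk with hF
  have hinj := inj_of_chk (N := N) h2
  have hPQ : ∀ pq ∈ PQ, Cor G F M (lk pq.2) := by
    intro pq hpq
    obtain ⟨g, hg, hgi⟩ := hin pq hpq
    exact ⟨⟨g, hg⟩, cor_of_chkPQ ((allL_iff _ _).1 h1 pq hpq) ⟨g, hg⟩ hgi⟩
  have hcl : ∀ g : G, ∀ x < M, ∃ y < M, g • F x = F y := closed hG (by
    intro g hgT hg x hx
    obtain ⟨pq, hpq, hgi⟩ := hGT g hgT
    obtain ⟨h7, h8⟩ := cor_of_chkPQ ((allL_iff _ _).1 h1 pq hpq) (⟨g, hg⟩ : G) hgi x hx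
    exact ⟨_, h7, h8⟩) hinj
  have hword : ∀ w ∈ KW, Cor G F M (ev (snds w)) := by
    intro w hw
    refine Cor.ev fun Q hQ => ?_
    obtain ⟨P, hP⟩ := mem_snds hQ
    exact hPQ _ (hKW w hw _ hP)
  let K := KK hcl hinj (lab bs)
  have hwK : ∀ w ∈ KW, ∃ g ∈ K, ∀ x < M, ev (snds w) x < M ∧ g • F x = F (ev (snds w) x) := by
    intro w hw
    obtain ⟨g, hg⟩ := hword w hw
    have h7 := (allL_iff _ _).1 h3 w hw
    unfold chkW at h7
    rw [band_eq_true] at h7
    have h8 : ev (snds w) 0 = 0 := Nat.eq_of_beq_eq_true h7.1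
    refine ⟨g, ⟨?_, ?_⟩, hg⟩
    · have h9 := (hg 0 hM).2
      rwa [h8] at h9
    · intro x hx y hy hxy
      have h9 := hg x hx
      rw [h9.2] at hxy
      rw [← hinj _ h9.1 _ hy hxy]
      exact Nat.eq_of_beq_eq_true ((allB_iff _ _).1 h7.2 x hx)
  unfold chkF at h4
  rw [allB_iff] at h4
  have hreachG : ∀ x, x < M → ∃ g : G, g • F 0 = F x := by
    intro x
    induction x using Nat.strong_induction_on with
    | _ x ih =>
      intro hx
      have h7 := h4 x hx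
      rw [bor_iff, forceB_eq, band_eq_true, bor_iff, band_eq_true, band_eq_true, anyB_iff, anyB_iff] at h7
      rcases h7 with h7 | ⟨h7, h8⟩
      · rw [Nat.eq_of_beq_eq_true h7]
        exact ⟨1, one_smul _ _⟩
      · have h9 : pr x < x := Nat.blt_eq ▸ h7
        obtain ⟨g, hg⟩ := ih _ h9 (h9.trans hx)
        rcases h8 with ⟨-, w, hw, h8⟩ | ⟨-, pq, hpq, h8⟩
        · obtain ⟨k, -, hk⟩ := hwK w hw
          refine ⟨k * g, ?_⟩
          rw [mul_smul, hg, (hk _ (h9.trans hx)).2, Nat.eq_of_beq_eq_true h8]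
        · obtain ⟨k, hk⟩ := hPQ pq hpq
          refine ⟨k * g, ?_⟩
          rw [mul_smul, hg, (hk _ (h9.trans hx)).2, Nat.eq_of_beq_eq_true h8]
  have hreachK : ∀ x, x < M → ∃ g ∈ K, g • F (rt bs (lab bs x)) = F x := by
    intro x
    induction x using Nat.strong_induction_on with
    | _ x ih =>
      intro hx
      have h7 := h4 x hx
      rw [bor_iff, forceB_eq, band_eq_true, bor_iff, band_eq_true, band_eq_true, anyB_iff, anyB_iff] at h7
      rcases h7 with h7 | ⟨h7, h8⟩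
      · rw [Nat.eq_of_beq_eq_true h7, hlab0]
        exact ⟨1, K.one_mem, one_smul _ _⟩
      · have h9 : pr x < x := Nat.blt_eq ▸ h7
        rcases h8 with ⟨h10, w, hw, h8⟩ | ⟨h10, -⟩
        · obtain ⟨g, hg, hgx⟩ := ih _ h9 (h9.trans hx)
          obtain ⟨k, hkK, hk⟩ := hwK w hw
          refine ⟨k * g, K.mul_mem hkK hg, ?_⟩
          rw [← Nat.eq_of_beq_eq_true h10, mul_smul, hgx, (hk _ (h9.trans hx)).2, Nat.eq_of_beq_eq_true h8]
        · rw [Nat.eq_of_beq_eq_true h10]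
          exact ⟨1, K.one_mem, one_smul _ _⟩
  unfold chkK at h5
  rw [band_eq_true, band_eq_true, allB_iff, allB_iff, allB_iff] at h5
  obtain ⟨h5a, h5b, h5c⟩ := h5
  have hlt : ∀ x < M, lab bs x < n := fun x hx => Nat.blt_eq ▸ h5a x hx
  have hrt : ∀ j < n, rt bs j < M := fun j hj => Nat.blt_eq ▸ h5b j hj
  refine of_index (G := G) (Y := Y N) (M := M) (n := n) (fun x => F x) ?_ ⟨0, hM⟩ ?_ ?_ K ?_
    (fun x => ⟨lab bs x, hlt x x.2⟩) (fun j => ⟨rt bs j, hrt j j.2⟩) ?_ ?_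
    (fun f f' => Nat.beq (isz f f') s) ?_ (fun i j => B i j) ?_ (fun j => kk j) ?_ ⟨0, hn⟩ ?_ a t L d ha hBa hL hd
    (fun f f' => ω (isz f f')) ?_ ?_ ?_
  · intro x y hxy
    exact Fin.ext (hinj x x.2 y y.2 hxy)
  · intro g x
    obtain ⟨y, hy, h⟩ := hcl g x x.2
    exact ⟨⟨y, hy⟩, h⟩
  · intro x
    exact hreachG x x.2
  · intro g hg
    exact hg.1
  · intro g hg x y hxy
    exact Fin.ext (hg.2 x x.2 y y.2 hxy)
  · intro x
    exact hreachK x x.2
  · intro g f f'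
    show Nat.beq (isz (g • f) (g • f')) s = Nat.beq (isz f f') s
    rw [isz_smul]
  · intro i j
    unfold chkB at h6
    rw [allB_iff] at h6
    have h7 := h6 i i.2
    rw [forceB_eq, allB_iff] at h7
    have h8 := (cntB_iff _ _ _).1 (h7 j j.2)
    rw [← card_fin] at h8
    rw [← h8]
    congr 1
    ext y
    simp only [Finset.mem_filter, Finset.mem_univ, true_and]
    rw [band_eq_true, forceB_eq, ← isz_eq]
    constructor
    · rintro ⟨h9, h10⟩
      refine ⟨?_, h9⟩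
      have h11 : lab bs y = j := congrArg Fin.val h10
      rw [h11]
      exact Nat.beq_refl _
    · rintro ⟨h9, h10⟩
      exact ⟨h10, Fin.ext (Nat.eq_of_beq_eq_true h9)⟩
  · intro j
    have h8 := (cntB_iff _ _ _).1 (h5c j j.2)
    rw [← card_fin] at h8
    rw [← h8]
    congr 1
    ext y
    simp only [Finset.mem_filter, Finset.mem_univ, true_and]
    constructor
    · intro h
      have h11 : lab bs y = j := congrArg Fin.val h
      rw [h11]
      exact Nat.beq_refl _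
    · intro h
      exact Fin.ext (Nat.eq_of_beq_eq_true h)
  · exact Fin.ext hlab0
  · intro g f f'
    show ω (isz (g • f) (g • f')) = ω (isz f f')
    rw [isz_smul]
  · intro f f'
    show ω (isz f f') = ω (isz f' f)
    rw [isz_comm]
  · intro i
    exact hω i

end tables

end Cfsg.Agent.H300.K4.Val
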